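import Cfsg.Agent.Pgp.E

/-! Orders of `2`-groups acting on abelian groups of odd order. -/

set_option autoImplicit false
set_option linter.unusedSectionVars false

namespace CF.Pgp

open Subgroup CF.BG CF.BG2
open scoped commutatorElement

variable {G : Type*} [Group G] [Finite G] {p q n : ℕ} {π : Set ℕ}
  {A B C D E H K L M N P Q R S T U V W X Y Z : Subgroup G}

theorem two_cases (k : PiGrp {2} P) : (∃ U, Elem 2 2 U P ∧ U ⊴ P) ∨
    ∃ C, Cyc C ∧ C ⊴ P ∧ (C = P ∨ 4 ≤ ♯C ∧ ♯P = 2 * ♯C) := by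
  refine or_iff_not_imp_left.2 fun h => ?_
  have := Fact.mk Nat.prime_two
  rcases Solv.normalRankOne_cases k.isPGroup fun A nA aA => (by
    have n := normal_iff_map_subtype.1 nA
    have a := (Abel.of_comm aA).map P.subtype
    refine (cyc_map_iff P.subtype_injective).1 (a.cyc_of_pRank (k.le n.le) (not_lt.1 fun r => ?_))
    have e := a.elem_Om Nat.prime_two
    obtain ⟨U, u1, u2, u3⟩ := k.exists_normal (n.Om 2) (r := 2) (e.log ▸ r)
    exact h ⟨U, ⟨u2.le, e.ab.le u1, u3⟩, u2⟩) with c | ⟨-, m, a, -, h1, h2, h3, -⟩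
  · exact ⟨P, c, .refl P, .inl rfl⟩
  refine ⟨_, (cyc_zpowers a).map P.subtype, normal_iff_map_subtype.1 (normal_of_index_eq_two h3),
    .inr ?_⟩
  rw [card_map P.subtype_injective, ← (zpowers a).index_mul_card, h3, Nat.card_zpowers, h2]
  exact ⟨Nat.pow_le_pow_right two_pos h1, rfl⟩

theorem three_le_card (k : PiGrp {2}ᶜ V) (h : V ≠ ⊥) : 3 ≤ ♯V := by
  have := one_lt_card.2 h
  have := k.not_dvd' Nat.prime_two rfl
  omega

universe u in
theorem two_mul_lt_aux (m : ℕ) : ∀ {G : Type u} [Group G] [Finite G] (P V : Subgroup G), ♯V < m →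
    PiGrp {2} P → PiGrp {2}ᶜ V → Abel V → V ≠ ⊥ → P ≤ 𝐍 V → 2 * (𝐂 V).relIndex P < ♯V ^ 2 := by
  induction m with
  | zero => intro _ _ _ _ _ h; omega
  | succ m ih =>
  suffices h : ∀ {G : Type u} [Group G] [Finite G] (P V : Subgroup G), ♯V < m + 1 → PiGrp {2} P →
      PiGrp {2}ᶜ V → Abel V → V ≠ ⊥ → P ≤ 𝐍 V → P ⊓ 𝐂 V = ⊥ → 2 * ♯P < ♯V ^ 2 by
    intro G _ _ P V lt k k' a ne n
    have n1 := normalIn_inf_cent n
    have n2 : V ≤ 𝐍 (P ⊓ 𝐂 V) := norm_of_cent (cent_symm inf_le_right)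
    have e := card_qt_of_inf_bot n2 (k.inf_left.inf_eq_bot k')
    have := h (qt (P ⊓ 𝐂 V) P) (qt _ V) (e ▸ lt) (k.qt _) (k'.qt _) (a.qt _)
      (fun h => ne (card_eq_one'.1 (e ▸ card_eq_one'.2 h))) (qt_norm _ n) (by
        rw [eq_bot_iff, ← qt_qp (_ ⊓ _), ← qt_self (K := P ⊓ 𝐂 V)]
        have l := qp_le_of_le_qt n1 (inf_le_left (b := 𝐂 (qt _ V)))
        refine qt_mono _ (le_inf l (comm_eq_bot.1 (le_bot_iff.1 (le_trans (le_inf ?_
          (comm_le_right (l.trans n))) (((k.inf_left (K := 𝐂 V)).inf_eq_bot k').le)))))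
        rw [← qt_cent_iff (qp_le_norm _) n2, qt_qp]
        exact inf_le_right)
    rwa [e, card_qt n1.norm, inf_relIndex_left] at this
  intro G _ _ P V lt k k' a ne n f
  have h3 := three_le_card k' ne
  have split : ∀ Q, Q ≤ P → ♯P ≤ 2 * ♯Q → ∀ u ∈ P, u ≠ 1 → Q ≤ 𝐍 (zpowers u) → V ⊓ 𝐂₁ u ≠ ⊥ →
      2 * ♯P < ♯V ^ 2 := fun Q l c u hu u1 nu ne1 => by
    have l1 := zpowers_le.2 hu
    have d := a.dprod_cent_comm (l1.trans n) ((k.le l1).coprime k')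
    have ne2 : ⁅V, zpowers u⁆ ≠ ⊥ := fun e => u1 (f.le ⟨hu, comm_eq_bot'.1 e (mem_zpowers u)⟩)
    rw [← cent_zpowers] at ne1
    have h4 := three_le_card (k'.le d.left_le) ne1
    have h5 := three_le_card (k'.le d.right_le) ne2
    have h6 := d.card
    have h7 := ih Q _ (by nlinarith) (k.le l) (k'.le d.left_le) (a.mono d.left_le) ne1
      (norm_inf (l.trans n) (norm_cent nu))
    have h8 := ih Q _ (by nlinarith) (k.le l) (k'.le d.right_le) (a.mono d.right_le) ne2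
      (norm_commutator (l.trans n) nu)
    have h9 := relIndex_inf_le (H := 𝐂 (V ⊓ 𝐂 (zpowers u))) (K := 𝐂 ⁅V, zpowers u⁆) (L := Q)
    rw [← cent_sup, d.sup, relIndex_of_inf_bot (eq_bot_mono f (le_inf (inf_le_right.trans l) inf_le_left))]
      at h9
    rw [← h6, mul_pow]
    nlinarith [Nat.mul_lt_mul'' h7 h8]
  rcases two_cases k with ⟨U, u1, u2⟩ | ⟨C, c1, c2, c3⟩
  · obtain ⟨u, hu, h1, h2⟩ := u1.abel.exists_cent1_ne_bot u1.not_cyc (u1.le.trans n) (u1.pi.coprime k') ne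
    refine split (P ⊓ 𝐂 U) inf_le_left ?_ u (u1.le hu) h1 (inf_le_right.trans
      ((cent_anti (zpowers_le.2 hu)).trans (cent_le_norm _))) h2
    rw [← card_inf_mul_relIndex (𝐂 U) P, inf_comm, mul_comm]
    exact Nat.mul_le_mul_right _ (Nat.le_of_dvd two_pos (u1.relIndex_cent_dvd_two k u2.norm))
  by_contra hc
  have := Reg.card_lt (K := V) (H := C) (fun x hx x1 => by_contra fun e => hc (split P le_rfl (by omega) x
    (c2.le hx) x1 (c1.le_norm (zpowers_le.2 hx) c2.norm) e)) (c2.le.trans n) ne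
  have : ♯P ≤ 2 * ♯C := c3.elim (fun e => by rw [e]; omega) fun e => e.2.le
  nlinarith

theorem two_mul_relIndex_lt (k : PiGrp {2} P) (k' : PiGrp {2}ᶜ V) (a : Abel V) (ne : V ≠ ⊥)
    (n : P ≤ 𝐍 V) : 2 * (𝐂 V).relIndex P < ♯V ^ 2 :=
  two_mul_lt_aux _ P V (Nat.lt_succ_self _) k k' a ne n

theorem relIndex_Phi_lt (k : PiGrp {2} P) (k' : PiGrp {2}ᶜ V) (a : Abel V) (m : MinN V P)
    (f : P ⊓ 𝐂 V = ⊥) : (𝚽 P).relIndex P < ♯V := by
  have h0 := card_mul_relIndex (Phi_le P)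
  have h1 := card_pos' (𝚽 P)
  have irr : ∀ x ∈ P, x ≠ 1 → P ≤ 𝐍 (zpowers x) → V ⊓ 𝐂₁ x = ⊥ := fun x hx x1 n =>
    (m.inf_eq_bot_or_le (cent_zpowers x ▸ norm_cent n)).resolve_right fun h =>
      x1 (f.le ⟨hx, cent_symm (cent_zpowers x ▸ h) (mem_zpowers x)⟩)
  rcases two_cases k with ⟨U, u1, u2⟩ | ⟨C, c1, c2, c3⟩
  swap
  · have := Reg.card_lt (K := V) (H := C) (fun x hx x1 => irr x (c2.le hx) x1
      (c1.le_norm (zpowers_le.2 hx) c2.norm)) (c2.le.trans m.norm) m.ne_bot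
    rcases c3 with rfl | ⟨c3, c4⟩
    · nlinarith
    have h2 : 1 < ♯(𝚽 P) := one_lt_card.2 fun e => by
      have e1 := (k.Phi_eq_bot.1 e).le c2.le
      have := Nat.pow_le_pow_right two_pos (e1.cyc_iff.1 c1)
      rw [← e1.pi.card_eq] at this
      omega
    nlinarith
  obtain ⟨u, hu, h2, h3⟩ := u1.abel.exists_cent1_ne_bot u1.not_cyc (u1.le.trans m.norm) (u1.pi.coprime k')
    m.ne_bot
  obtain ⟨t, ht, nt⟩ : ∃ t ∈ P, t ∉ 𝐂₁ u := by
    by_contra hc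
    push Not at hc
    exact h3 (irr u (u1.le hu) h2 (le_trans hc (cent_zpowers u ▸ cent_le_norm _)))
  have n0 := normalIn_inf_cent u2.norm
  have nt0 : t ∉ P ⊓ 𝐂 U := fun h => nt (mem_cent1.2 (mem_cent.1 h.2 u hu).symm)
  have i0 := Nat.le_of_dvd two_pos (u1.relIndex_cent_dvd_two k u2.norm)
  have l0 := logn_relIndex_le Nat.prime_two (k := 1) i0
  have n1 : P ⊓ 𝐂 U ≤ 𝐍 (V ⊓ 𝐂₁ u) := norm_inf (inf_le_left.trans m.norm) (inf_le_right.trans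
    ((cent_anti (zpowers_le.2 hu)).trans ((cent_zpowers u).le.trans (le_norm_self _))))
  have l2 : cj t (V ⊓ 𝐂₁ u) ≤ V := cj_le_of_norm (m.norm ht) inf_le_left
  have hz := commutator_mem_commutator hu ht
  have i1 : V ⊓ 𝐂₁ u ⊓ cj t (V ⊓ 𝐂₁ u) = ⊥ := by
    refine eq_bot_mono (irr ⁅u, t⁆ (u1.le (comm_le_left u2.norm hz))
      (fun e => nt (mem_cent1.2 (commutatorElement_eq_one_iff_mul_comm.1 e).symm))
      (norm_of_cent' (zpowers_le.2 (cent_of_logn_le_one k (u2.comm (.refl P)) ?_ hz))))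
      (le_inf (inf_le_left.trans inf_le_left) fun x hx => ?_)
    · have := logn_comm_le k u2
      rw [u1.log] at this
      exact this
    · have c1 : Commute x u := mem_cent1.1 hx.1.2
      have c2 : Commute x (t * u * t⁻¹) := mem_cent1.1 (cj_cent1 t u ▸ cj_mono t inf_le_right hx.2)
      have := c1.mul_right c2.inv_right
      exact mem_cent1.2 (by simpa [commutatorElement_def, mul_assoc] using this.eq)
  have e1 : V ⊓ 𝐂₁ u ⊔ cj t (V ⊓ 𝐂₁ u) = V := by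
    refine (m.eq_bot_or (sup_le inf_le_left l2) ?_).resolve_left (ne_bot_mono h3 le_sup_left)
    rw [← sup_zpowers_eq k inf_le_left l0 ht nt0]
    refine sup_le (norm_sup n1 (cj_of_norm (n0.norm ht) ▸ cj_norm_iff.2 n1)) (zpowers_le.2 (cj_eq_self.1 ?_))
    rw [cj_sup, cj_cj, cj_of_norm (n1 (mul_mem_of_logn k inf_le_left l0 ht ht nt0 nt0)), sup_comm]
  have h4 := card_sup_of_inf_bot (.inl (norm_of_cent (a.cent inf_le_left l2))) i1
  rw [e1, card_cj, ← sq] at h4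
  have h5 := two_mul_relIndex_lt k.inf_left (k'.le inf_le_left) (a.mono inf_le_left) h3 n1
  have h6 := card_inf_mul_relIndex (𝐂 (V ⊓ 𝐂₁ u)) (P ⊓ 𝐂 U)
  have h7 := relIndex_cent1_le (Q := 𝐂 (V ⊓ 𝐂₁ u) ⊓ (P ⊓ 𝐂 U)) (x := t) (Z := 𝚽 P) fun x hx =>
    k.der_le_Phi (commutator_mem_commutator hx.2.1 ht)
  have h9 : 𝐂₁ t ⊓ (𝐂 (V ⊓ 𝐂₁ u) ⊓ (P ⊓ 𝐂 U)) ≤ P ⊓ 𝐂 V := fun x hx => mem_inf.2 ⟨hx.2.2.1, by
    rw [← e1, cent_sup, ← cj_cent, mem_inf, mem_cj, mul_assoc, mem_cent1.1 hx.1, inv_mul_cancel_left]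
    exact ⟨hx.2.1, hx.2.1⟩⟩
  rw [relIndex_of_inf_bot (BG.eq_bot_mono f h9)] at h7
  have h8 := card_inf_mul_relIndex (𝐂 U) P
  rw [inf_comm] at h8
  by_contra hc
  nlinarith [Nat.mul_le_mul_left (♯(P ⊓ 𝐂 U)) i0, Nat.mul_le_mul_right ((𝐂 (V ⊓ 𝐂₁ u)).relIndex (P ⊓ 𝐂 U)) h7,
    Nat.mul_le_mul_left (♯(𝚽 P)) (not_lt.1 hc), Nat.mul_lt_mul_of_pos_left h5 h1]

end CF.Pgp
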