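import Cfsg.Agent.Pgp.F
import Cfsg.Agent.Char.Integral
import Cfsg.Agent.Char.Kernel

/-! Orbits of the automorphism group on a finite group. -/

set_option autoImplicit false
set_option linter.unusedSectionVars false

namespace CF.Pgp

open Subgroup CF.BG CF.BG2
open scoped commutatorElement

variable {G : Type*} [Group G] [Finite G] {p q n : ℕ} {π : Set ℕ}
  {A B C D E H K L M N P Q R S T U V W X Y Z : Subgroup G}

theorem exists_aut_mul [M.Normal] {x u : G} (e : M ⊔ zpowers x = ⊤) (hu : u ∈ M ⊓ 𝐂 M)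
    (h : ∀ k : ℤ, x ^ k ∈ M → (x * u) ^ k = x ^ k) : ∃ α : MulAut G, α x = x * u := by
  have : (M ⊓ 𝐂 M).Normal := inferInstance
  let δ : ℤ → G := fun k => x ^ (-k) * (x * u) ^ k
  have d1 : ∀ k, δ k ∈ M ⊓ 𝐂 M := fun k => by
    rw [← QuotientGroup.eq_one_iff]
    simp [δ, (QuotientGroup.eq_one_iff u).2 hu]
  have d2 : ∀ i j, δ (i + j) = x ^ (-j) * δ i * x ^ j * δ j := fun i j => by simp only [δ]; group
  have d3 : ∀ i j, x ^ (i - j) ∈ M → δ i = δ j := fun i j hm => by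
    have := d2 (i - j) j
    rw [sub_add_cancel] at this
    simp only [this, δ, h _ hm]; group
  have ex : ∀ g : G, ∃ i : ℤ, g * x ^ (-i) ∈ M := fun g => by
    obtain ⟨m, hm, _, ⟨i, rfl⟩, rfl⟩ := (mem_sup_norm' le_normalizer_of_normal).1 (e.ge (mem_top g))
    exact ⟨i, by simpa using hm⟩
  choose i hi using ex
  have d4 : ∀ g k, g * x ^ (-k) ∈ M → δ (i g) = δ k := fun g k hk => d3 _ _ (by
    have := mul_mem (inv_mem (hi g)) hk
    rwa [show (g * x ^ (-i g))⁻¹ * (g * x ^ (-k)) = x ^ (i g - k) by group] at this)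
  let f : G →* G := MonoidHom.mk' (fun g => g * δ (i g)) fun g g' => by
    have h1 := mul_mem (hi g) (‹M.Normal›.conj_mem _ (hi g') (x ^ i g))
    rw [d4 (g * g') (i g + i g') (by convert h1 using 1; group), d2]
    have h2 := mem_cent.1 (d1 (i g)).2 _ (hi g')
    calc _ = g * (g' * x ^ (-i g') * δ (i g)) * x ^ i g' * δ (i g') := by group
      _ = _ := by rw [h2]; group
  have inj : Function.Injective f := (injective_iff_map_eq_one f).2 fun g (hg : g * δ (i g) = 1) => by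
    have h1 : g ∈ M := (mul_mem_cancel_right (mem_inf.1 (d1 (i g))).1).1 (hg ▸ one_mem M)
    rw [d4 g 0 (by simpa using h1)] at hg
    simpa [δ] using hg
  refine ⟨MulEquiv.ofBijective f (Finite.injective_iff_bijective.1 inj), ?_⟩
  change x * δ (i x) = _
  rw [d4 x 1 (by simp)]
  simp [δ]

theorem card_le_orbit (hp : p.Prime) [M.Normal] (i : M.index = p) {x : G} (nx : x ∉ M) (l : W ≤ M ⊓ 𝐂 M)
    (h : ∀ u ∈ W, (x * u) ^ p = x ^ p) : ♯W ≤ Nat.card (MulAction.orbit (MulAut G) x) := by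
  have e : M ⊔ zpowers x = ⊤ := by
    rw [← index_eq_one]
    have h1 := relIndex_mul_index (le_sup_left (a := M) (b := zpowers x))
    refine (hp.eq_one_or_self_of_dvd _ (i ▸ Dvd.intro_left _ h1)).resolve_right fun e => nx ?_
    rw [e, i, Nat.mul_eq_right hp.ne_zero] at h1
    exact relIndex_eq_one.1 h1 (mem_sup_right (mem_zpowers x))
  have o : orderOf (x : G ⧸ M) = p := (hp.eq_one_or_self_of_dvd _ (i ▸ orderOf_dvd_natCard _)).resolve_left
    fun e => nx ((QuotientGroup.eq_one_iff x).1 (orderOf_eq_one_iff.1 e))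
  refine Nat.card_le_card_of_injective (fun u : W => ⟨x * u, ?_⟩) fun u v e =>
    Subtype.ext (mul_left_cancel (congrArg Subtype.val e))
  refine exists_aut_mul e (l u.2) fun k hk => ?_
  obtain ⟨j, rfl⟩ : (p : ℤ) ∣ k := by
    rw [← o, orderOf_dvd_iff_zpow_eq_one, ← QuotientGroup.mk_zpow, QuotientGroup.eq_one_iff]; exact hk
  rw [zpow_mul, zpow_mul, zpow_natCast, zpow_natCast, h u u.2]

theorem mul_card_orbits_le {Γ X : Type*} [Group Γ] [MulAction Γ X] [Fintype X] (w : X → ℕ) {m : ℕ}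
    (h : ∀ x : X, m ≤ w x * Nat.card (MulAction.orbit Γ x)) :
    m * Nat.card (MulAction.orbitRel.Quotient Γ X) ≤ ∑ x, w x := by
  classical
  have := Fintype.ofFinite (MulAction.orbitRel.Quotient Γ X)
  rw [← Finset.sum_fiberwise Finset.univ (Quotient.mk (MulAction.orbitRel Γ X)), Nat.card_eq_fintype_card,
    mul_comm, ← smul_eq_mul, ← Finset.card_univ]
  refine Finset.card_nsmul_le_sum _ _ _ fun ω _ => ?_
  obtain ⟨y, rfl⟩ := ω.exists_rep
  have e : ∀ x, Quotient.mk (MulAction.orbitRel Γ X) x = Quotient.mk _ y ↔ x ∈ MulAction.orbit Γ y :=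
    fun x => Quotient.eq
  simp only [e]
  have c : (Finset.univ.filter (· ∈ MulAction.orbit Γ y)).card = Nat.card (MulAction.orbit Γ y) := by
    rw [Nat.card_eq_fintype_card, Fintype.card_subtype]
  have pos : 0 < Nat.card (MulAction.orbit Γ y) :=
    c ▸ Finset.card_pos.2 ⟨y, Finset.mem_filter.2 ⟨Finset.mem_univ y, MulAction.mem_orbit_self y⟩⟩
  refine Nat.le_of_mul_le_mul_right ?_ pos
  rw [Finset.sum_mul, mul_comm m]
  conv_lhs => rw [← c, ← smul_eq_mul]
  exact Finset.card_nsmul_le_sum _ _ _ fun x hx =>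
    MulAction.orbit_eq_iff.2 (Finset.mem_filter.1 hx).2 ▸ h x

theorem card_orbits_le_conj :
    Nat.card (MulAction.orbitRel.Quotient (MulAut G) G) ≤ Nat.card (ConjClasses G) := by
  refine Nat.card_le_card_of_surjective (Quotient.lift (Quotient.mk _) fun a b (h : IsConj a b) => ?_) ?_
  · obtain ⟨c, rfl⟩ := isConj_iff.1 h
    exact (Quotient.sound (MulAction.orbitRel_apply.2 ⟨MulAut.conj c, rfl⟩)).symm
  · intro ω
    obtain ⟨y, rfl⟩ := ω.exists_rep
    exact ⟨ConjClasses.mk y, rfl⟩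

theorem sq_mul_conj_le (h : ∀ m, m ≠ 1 → m ∣ Nat.card G → p ≤ m) :
    p ^ 2 * Nat.card (ConjClasses G) + (commutator G).index ≤ Nat.card G + p ^ 2 * (commutator G).index := by
  classical
  choose d d0 hd using fun χ : Cfsg.IrrCharacter G => Char.irr_one_eq_nat χ.2
  have h1 := Char.sum_irr_one_sq (G := G)
  simp only [hd] at h1
  have h2 : ∑ χ, d χ ^ 2 = Nat.card G := by exact_mod_cast h1
  rw [← Char.card_irr_one_eq_one, Nat.card_eq_fintype_card (α := {χ : Cfsg.IrrCharacter G // _}),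
    Fintype.card_subtype, Finset.card_filter, ← Char.card_irr, ← h2, Nat.card_eq_fintype_card,
    ← Finset.card_univ, Finset.card_eq_sum_ones, Finset.mul_sum, Finset.mul_sum, ← Finset.sum_add_distrib,
    ← Finset.sum_add_distrib]
  refine Finset.sum_le_sum fun χ _ => ?_
  split_ifs with e
  · have : d χ = 1 := by exact_mod_cast (hd χ).symm.trans e
    rw [this]; omega
  · have := Nat.pow_le_pow_left (h (d χ) (fun e' => e (by rw [hd, e', Nat.cast_one]))
      (Char.irr_one_dvd_card χ.2 (hd χ))) 2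
    omega

section der
variable (hp : p.Prime) (d : ♯⁅(⊤ : Subgroup G), (⊤ : Subgroup G)⁆ = p) (c : ⁅(⊤ : Subgroup G), (⊤ : Subgroup G)⁆ ≤ 𝐂 (⊤ : Subgroup G))
include hp d c

omit hp in
theorem comm_pow_eq (x y : G) : ⁅x, y⁆ ^ p = 1 := by
  rw [← d, ← orderOf_dvd_iff_pow_eq_one]
  exact orderOf_dvd_card' (commutator_mem_commutator (mem_top x) (mem_top y))

omit hp d in
theorem commute_comm (x y z : G) : Commute x ⁅y, z⁆ :=
  (comm_of_cent (c (commutator_mem_commutator (mem_top y) (mem_top z))) (mem_top x)).symm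

omit hp in
theorem pow_mem_cent (x : G) : x ^ p ∈ 𝐂 (⊤ : Subgroup G) := mem_cent.2 fun y _ => by
  rw [← commutatorElement_eq_one_iff_mul_comm, Transfer.commutatorElement_pow_right' (commute_comm c _ _ _),
    comm_pow_eq d c]

theorem index_cent1 {w : G} (h : w ∉ 𝐂 (⊤ : Subgroup G)) : (𝐂₁ w).index = p := by
  have h1 := relIndex_cent1_le (Q := ⊤) (x := w) fun x hx => commutator_mem_commutator hx (mem_top w)
  rw [relIndex_top_right, d] at h1
  have n : 𝐂₁ w ⊴ ⊤ := normalIn_of_der_le le_top (c.trans (cent_zpowers w ▸ cent_anti le_top))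
  have k : PiGrp {p} (qt (𝐂₁ w) ⊤) := piGrp_of_forall_elt fun y hy => by
    obtain ⟨y, -, ny, rfl⟩ := mem_qt.1 hy
    exact piElt_of_pow_eq_one hp (by
      rw [← qe_pow ny, qe_of_mem (cent_zpowers w ▸ cent_anti le_top (pow_mem_cent d c y))])
  have h2 := k.dvd_card fun e => h (mem_cent.2 fun y _ => mem_cent1.1 ((qt_eq_bot n.norm).1 e (mem_top y)))
  rw [card_qt n.norm, relIndex_top_right] at h2
  exact le_antisymm h1 (Nat.le_of_dvd (Nat.pos_of_ne_zero index_ne_zero_of_finite) h2)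

theorem exists_pi_not_commute {x y : G} (h : ¬ Commute x y) : ∃ a, PiElt {p} a ∧ ¬ Commute a y := by
  obtain ⟨a, b, -, -, ha, hb, rfl⟩ := exists_piPart {p} x
  refine ⟨a, ha, fun e => h (e.mul_left (comm_of_cent (PLocal.mem_of_pow_mem_of_coprime
    (pow_mem_cent d c b) ((piNat_compl_single_iff_coprime hp).1 hb)) (mem_top y)))⟩

theorem exists_W {x y : G} (h : ¬ Commute x y) : ∃ (w : G) (W : Subgroup G), w ∉ 𝐂 (⊤ : Subgroup G) ∧
    W ≤ 𝐂₁ w ⊓ 𝐂 (𝐂₁ w) ∧ p ^ 2 ≤ ♯W ∧ ∀ x ∉ 𝐂₁ w, ∀ u ∈ W, (x * u) ^ p = x ^ p := by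
  have nz : ∀ {x y : G}, ¬ Commute x y → x ∉ 𝐂 (⊤ : Subgroup G) := fun h e => h (comm_of_cent e (mem_top _))
  have cZ : ∀ w : G, 𝐂 (⊤ : Subgroup G) ≤ 𝐂₁ w ⊓ 𝐂 (𝐂₁ w) := fun w =>
    le_inf (cent_zpowers w ▸ cent_anti le_top) (cent_anti le_top)
  have cw : ∀ w : G, zpowers w ≤ 𝐂₁ w ⊓ 𝐂 (𝐂₁ w) := fun w =>
    le_inf (zpowers_le.2 (mem_cent1.2 rfl)) (cent_symm (cent_zpowers w).ge)
  have pw := fun x y : G => Transfer.mul_pow_of_class_two (commute_comm c x y x) (commute_comm c y y x)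
  have aZ : Abel (𝐂 (⊤ : Subgroup G)) := cent_anti le_top
  by_cases hE : ∃ E, Elem p 2 E (𝐎 {p} (𝐂 (⊤ : Subgroup G)))
  · obtain ⟨E, hE⟩ := hE
    have l := hE.le.trans (O_le _ _)
    exact ⟨x, E, nz h, l.trans (cZ x), hE.card.ge, fun y _ u hu => by
      rw [(comm_of_cent (l hu) (mem_top y)).symm.mul_pow, hE.ab.pow u hu, mul_one]⟩
  have kT := O_pi {p} (𝐂 (⊤ : Subgroup G))
  have cT := (aZ.mono (O_le _ _)).cyc_of_pRank kT (not_lt.1 fun r => hE (exists_elem r))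
  have mT : ∀ a : G, PiElt {p} a → zpowers (a ^ p) ≤ 𝐎 {p} (𝐂 (⊤ : Subgroup G)) := fun a k =>
    zpowers_le.2 (aZ.nil.mem_O (pow_mem_cent d c a) (k.pow p))
  obtain ⟨a, b, kb, h1, l⟩ : ∃ a b : G, PiElt {p} b ∧ ¬ Commute a b ∧ a ^ p ∈ zpowers (b ^ p) := by
    obtain ⟨a, ka, h1⟩ := exists_pi_not_commute hp d c h
    obtain ⟨b, kb, h2⟩ := exists_pi_not_commute hp d c fun e => h1 e.symm
    rcases cT.le_total kT (mT a ka) (mT b kb) with l | l
    · exact ⟨a, b, kb, fun e => h2 e.symm, zpowers_le.1 l⟩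
    · exact ⟨b, a, ka, h2, zpowers_le.1 l⟩
  obtain ⟨j, hj⟩ := mem_zpowers_iff.1 l
  have h2 : ¬ Commute (a * b ^ (-j)) b := fun e =>
    h1 (by simpa using e.mul_left (Commute.zpow_self b j))
  have h3 : (a * b ^ (-j)) ^ p = ⁅b ^ (-j), a⁆ ^ p.choose 2 := by
    rw [pw, ← hj, ← zpow_natCast (b ^ (-j)), ← zpow_mul, ← zpow_natCast b, ← zpow_mul, ← zpow_add]
    simp [mul_comm]
  generalize a * b ^ (-j) = w at h2 h3
  by_cases h4 : p = 2
  swap
  · obtain ⟨i, hi⟩ := (hp.dvd_choose_self two_ne_zero (by have := hp.two_le; omega))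
    have e : ∀ x y : G, ⁅x, y⁆ ^ p.choose 2 = 1 := fun x y => by rw [hi, pow_mul, comm_pow_eq d c, one_pow]
    have l1 : ⁅(⊤ : Subgroup G), (⊤ : Subgroup G)⁆ < ⁅(⊤ : Subgroup G), (⊤ : Subgroup G)⁆ ⊔ zpowers w := lt_sup_zpowers fun e => nz h2 (c e)
    have ex : ∀ u ∈ ⁅(⊤ : Subgroup G), (⊤ : Subgroup G)⁆ ⊔ zpowers w, u ^ p = 1 := fun u hu => by
      obtain ⟨z, hz, _, ⟨k, rfl⟩, rfl⟩ := (mem_sup_norm' (le_top.trans (der_normal ⊤).norm)).1 hu
      rw [pw, e, ← zpow_natCast (w ^ k), ← zpow_mul, mul_comm k, zpow_mul, zpow_natCast, h3, e,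
        orderOf_dvd_iff_pow_eq_one.1 (d ▸ orderOf_dvd_card' hz)]
      simp
    have k := piGrp_of_forall_elt fun u hu => piElt_of_pow_eq_one hp (ex u hu)
    refine ⟨w, _, nz h2, sup_le (c.trans (cZ w)) (cw w), ?_, fun x _ u hu => by rw [pw, e, ex u hu]; simp⟩
    have := k.logn_lt l1
    rw [d, logn_self hp] at this
    exact k.card_eq ▸ Nat.pow_le_pow_right hp.pos this
  subst h4
  obtain ⟨z, z1, z2⟩ : ∃ z, z ≠ 1 ∧ ∀ x ∈ ⁅(⊤ : Subgroup G), (⊤ : Subgroup G)⁆, x ≠ 1 → x = z := by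
    obtain ⟨z, hz, z1⟩ := exists_mem_ne_one (ne_bot_of_prime_card (d ▸ hp))
    exact ⟨z, z1, fun x hx x1 => (mem_zpowers_of_sq (by
      rw [← sq, ← d]; exact orderOf_dvd_iff_pow_eq_one.1 (orderOf_dvd_card' hz))
        ((zpowers_eq_of_prime (d ▸ hp) hz z1).ge hx)).resolve_left x1⟩
  have z3 : ∀ {x y : G}, ¬ Commute x y → ⁅x, y⁆ = z := fun h => z2 _
    (commutator_mem_commutator (mem_top _) (mem_top _)) fun e => h (commutatorElement_eq_one_iff_commute.1 e)
  have z4 : z ^ 2 = 1 := z3 h ▸ comm_pow_eq d c _ _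
  suffices hs : ∃ w y : G, ¬ Commute w y ∧ w ^ 2 = z by
    obtain ⟨w, y, h5, h6⟩ := hs
    refine ⟨w, _, nz h5, cw w, ?_, fun x hx u hu => ?_⟩
    · have := Fact.mk hp
      rw [Nat.card_zpowers, orderOf_eq_prime_pow (n := 1) (by rwa [pow_one, h6])
        (by rw [pow_succ, pow_mul, pow_one, h6, z4])]
    · obtain ⟨i, rfl⟩ := mem_powers_iff_mem_zpowers.2 hu
      simp only [pw, Nat.choose_self, pow_one]
      rw [Transfer.commutatorElement_pow_left' (commute_comm c _ _ _), z3 fun e => hx (mem_cent1.2 e.symm),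
        ← pow_mul, mul_comm i, pow_mul, h6, mul_assoc, ← pow_add, ← two_mul, pow_mul, z4, one_pow, mul_one]
  by_cases h5 : w ^ 2 = 1
  swap
  · exact ⟨w, b, h2, z2 _ (h3 ▸ pow_mem (commutator_mem_commutator (mem_top _) (mem_top _)) _) h5⟩
  by_cases h6 : b ^ 2 = 1
  · exact ⟨w * b, b, fun e => h2 (by simpa using e.mul_left (Commute.refl b).inv_left), by
      rw [pw, h5, h6, z3 fun e => h2 e.symm]; simp⟩
  by_cases h7 : b ^ 2 = z
  · exact ⟨b, w, fun e => h2 e.symm, h7⟩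
  have kD : PiGrp {2} ⁅(⊤ : Subgroup G), (⊤ : Subgroup G)⁆ := piGrp_of_card_prime hp d
  have l2 : ⁅(⊤ : Subgroup G), (⊤ : Subgroup G)⁆ < zpowers (b ^ 2) := by
    refine lt_of_le_not_ge ?_ fun l => h7 (z2 _ (zpowers_le.1 l) h6)
    exact (cT.le_total kT (aZ.nil.le_O c kD) (mT b kb)).resolve_right fun l => h7 (z2 _ (zpowers_le.1 l) h6)
  obtain ⟨i, hi⟩ := le_zpowers_pow hp (kb.pow 2) l2
    (z3 h ▸ commutator_mem_commutator (mem_top _) (mem_top _))
  have cu := zpow_mem (pow_mem_cent d c b) i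
  refine ⟨w * (b ^ 2) ^ i, b, fun e => h2 (by
    simpa using e.mul_left (comm_of_cent cu (mem_top b)).inv_left), ?_⟩
  rw [(comm_of_cent cu (mem_top w)).symm.mul_pow, h5, one_mul, ← hi, ← zpow_natCast (_ ^ i), ← zpow_mul,
    mul_comm, zpow_mul, zpow_natCast]

theorem mul_orbits_le {x y : G} (h : ¬ Commute x y) :
    p * Nat.card (MulAction.orbitRel.Quotient (MulAut G) G) ≤ Nat.card G := by
  classical
  have := Fintype.ofFinite G
  obtain ⟨w, W, h1, h2, h3, h4⟩ := exists_W hp d c h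
  have l : ∀ w : G, 𝐂 (⊤ : Subgroup G) ≤ 𝐂₁ w := fun w => cent_zpowers w ▸ cent_anti le_top
  have n : ∀ w : G, (𝐂₁ w).Normal := fun w => normalIn_top.1 (normalIn_of_der_le le_top (c.trans (l w)))
  have i := index_cent1 hp d c h1
  have h5 := mul_card_orbits_le (Γ := MulAut G) (m := p ^ 2) (fun x : G => 1 +
    (if x ∈ 𝐂₁ w then p - 1 else 0) + if x ∈ 𝐂 (⊤ : Subgroup G) then p ^ 2 - p else 0) fun x => by
    have := n w
    have h2 := hp.two_le
    by_cases hx : x ∈ 𝐂₁ w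
    swap
    · rw [if_neg hx, if_neg (mt (@l w x) hx), add_zero, add_zero, one_mul]
      exact h3.trans (card_le_orbit hp i hx ‹_› (h4 x hx))
    by_cases hz : x ∈ 𝐂 (⊤ : Subgroup G)
    · have : 0 < Nat.card (MulAction.orbit (MulAut G) x) :=
        Nat.card_pos_iff.2 ⟨⟨⟨x, MulAction.mem_orbit_self x⟩⟩, inferInstance⟩
      have := Nat.le_self_pow two_ne_zero p
      simp only [hx, hz, if_true]
      exact le_trans (by omega) (Nat.le_mul_of_pos_right _ ‹_›)
    obtain ⟨y, hy⟩ : ∃ y, x ∉ 𝐂₁ y := by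
      by_contra hc
      push Not at hc
      exact hz (mem_cent.2 fun y _ => (mem_cent1.1 (hc y)).symm)
    have := n y
    have := card_le_orbit hp (index_cent1 hp d c fun e => hy (mem_cent1.2 (mem_cent.1 e x trivial))) hy
      (c.trans (le_inf (l y) (cent_anti le_top))) fun u hu => by
        rw [(comm_of_cent (c hu) (mem_top x)).symm.mul_pow,
          (orderOf_dvd_iff_pow_eq_one (x := u)).1 (d ▸ orderOf_dvd_card' hu), mul_one]
    simp only [hx, hz, if_true, if_false]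
    rw [show 1 + (p - 1) + 0 = p by omega, sq]
    exact Nat.mul_le_mul_left _ (d ▸ this)
  have cs : ∀ (K : Subgroup G) (a : ℕ), (∑ x, if x ∈ K then a else 0) = ♯K * a := fun K a => by
    rw [← Finset.sum_filter, Finset.sum_const, smul_eq_mul, Nat.card_eq_fintype_card, Fintype.card_subtype]
  rw [Finset.sum_add_distrib, Finset.sum_add_distrib, cs, cs, Finset.sum_const, Finset.card_univ,
    ← Nat.card_eq_fintype_card, smul_eq_mul, mul_one] at h5
  have h6 := (𝐂₁ w).index_mul_card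
  have h7 : ♯(𝐂 (⊤ : Subgroup G)) * p ≤ ♯(𝐂₁ w) := by
    have n1 : 𝐂 (⊤ : Subgroup G) ⊴ 𝐂₁ w := ⟨l w, norm_of_cent (cent_symm (cent_anti le_top))⟩
    have k : PiGrp {p} (qt (𝐂 (⊤ : Subgroup G)) (𝐂₁ w)) := piGrp_of_forall_elt fun y hy => by
      obtain ⟨y, -, ny, rfl⟩ := mem_qt.1 hy
      exact piElt_of_pow_eq_one hp (by rw [← qe_pow ny, qe_of_mem (pow_mem_cent d c y)])
    have h8 := k.dvd_card fun e => h1 ((qt_eq_bot n1.norm).1 e (mem_cent1.2 rfl))
    rw [card_qt n1.norm] at h8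
    rw [← card_mul_relIndex (l w)]
    exact Nat.mul_le_mul_left _ (Nat.le_of_dvd (relIndex_pos _ _) h8)
  rw [i] at h6
  rw [← h6] at h5 ⊢
  obtain ⟨r, rfl⟩ := Nat.exists_eq_add_of_le' hp.two_le
  rw [show (r + 2) ^ 2 - (r + 2) = (r + 2) * (r + 1) from Nat.sub_eq_of_eq_add (by ring)] at h5
  simp only [show r + 2 - 1 = r + 1 from rfl] at h5
  refine Nat.le_of_mul_le_mul_left ?_ hp.pos
  nlinarith [Nat.mul_le_mul_right (r + 1) h7, Nat.zero_le (r * r * ♯(𝐂₁ w)), Nat.zero_le (r * ♯(𝐂₁ w))]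

end der

theorem minFac_mul_orbits_le (h : ¬ IsMulCommutative G) :
    (Nat.card G).minFac * Nat.card (MulAction.orbitRel.Quotient (MulAut G) G) ≤ Nat.card G := by
  obtain ⟨x, y, h1⟩ : ∃ x y : G, ¬ Commute x y := by
    by_contra hc
    push Not at hc
    exact h ⟨⟨hc⟩⟩
  have ne : ⁅(⊤ : Subgroup G), (⊤ : Subgroup G)⁆ ≠ ⊥ := ne_bot_of_mem (commutator_mem_commutator (mem_top x) (mem_top y))
    fun e => h1 (commutatorElement_eq_one_iff_commute.1 e)
  have l : ∀ m, m ≠ 1 → m ∣ Nat.card G → (Nat.card G).minFac ≤ m := fun m m1 d =>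
    Nat.minFac_le_of_dvd (by have := ne_zero_of_dvd_ne_zero Nat.card_pos.ne' d; omega) d
  have h2 := one_lt_card.2 ne
  have h3 := l _ h2.ne' (card_subgroup_dvd_card _)
  have hp : (Nat.card G).minFac.Prime := Nat.minFac_prime fun e => by
    have := card_le (le_top (a := ⁅(⊤ : Subgroup G), (⊤ : Subgroup G)⁆))
    rw [card_top', e] at this
    omega
  generalize (Nat.card G).minFac = p at *
  rcases h3.eq_or_lt with e | e
  · refine mul_orbits_le hp e.symm (cent_symm (relIndex_eq_one.1 ?_)) h1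
    by_contra h4
    have h5 := (cyc_of_prime (e ▸ hp)).relIndex_cent_dvd (der_normal ⊤).norm
    rw [← e, Nat.totient_prime hp] at h5
    have := l _ h4 (relIndex_top_right (H := 𝐂 ⁅(⊤ : Subgroup G), (⊤ : Subgroup G)⁆) ▸ index_dvd_card _)
    have := Nat.le_of_dvd (by have := hp.two_le; omega) h5
    have := hp.pos
    omega
  have h4 := sq_mul_conj_le l
  have h5 := (commutator G).index_mul_card
  have h6 := card_orbits_le_conj (G := G)
  rw [← _root_.commutator_def] at e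
  rw [← h5] at h4 ⊢
  obtain ⟨r, rfl⟩ := Nat.exists_eq_add_of_le' hp.one_le
  refine Nat.le_of_mul_le_mul_left ?_ hp.pos
  nlinarith [Nat.mul_le_mul_left ((r + 1) ^ 2) h6, Nat.mul_le_mul_left (r * (commutator G).index) e]

end CF.Pgp
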