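import Mathlib
import Cfsg.Agent.Fgs2.Metacyc2
import Cfsg.Agent.Fgs2.Regular
import Cfsg.Agent.S0638
import Cfsg.Agent.S3884
import Cfsg.Agent.S0112
import Cfsg.Agent.S0662

/-! Automorphisms of order `p` of metacyclic `p`-groups, `p` odd. -/

set_option autoImplicit false

namespace CF.Mca

open Cfsg Subgroup CF.Fgs2
open scoped commutatorElement

variable {L : Type*} [Group L] {p : ℕ}

theorem meta_sub (h : IsMetacyclic L) (K : Subgroup L) : IsMetacyclic K := by
  obtain ⟨N, _, h1, h2⟩ := h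
  let f := K.subtype
  have hf : Function.Injective f := K.subtype_injective
  refine ⟨N.comap f, inferInstance, isCyclic_of_injective ((f.comp (N.comap f).subtype).codRestrict N fun x => x.2)
    fun x y e => Subtype.ext (hf (congrArg (fun z : N => (z : L)) e)), isCyclic_of_injective
      (QuotientGroup.map _ N f le_rfl) ((injective_iff_map_eq_one _).2 fun x => ?_)⟩
  obtain ⟨x, rfl⟩ := QuotientGroup.mk_surjective x
  exact fun e => (QuotientGroup.eq_one_iff x).2 ((QuotientGroup.eq_one_iff (f x)).1 e)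

theorem reg1 [Finite L] [hp : Fact p.Prime] (h2 : p ≠ 2) (hL : IsPGroup p L) (hmc : IsMetacyclic L) :
    Reg1 p L := by
  obtain ⟨D⟩ := nonempty_mgen hL hmc
  refine reg1_of_lcs hp.out fun a b => ?_
  set H := closure ({a, b} : Set L)
  have h3 : 2 ≤ p - 1 := by have := hp.out.two_le; omega
  refine (H.lowerCentralSeries_antitone h3).trans ?_
  show ⁅⁅H, H⁆, H⁆ ≤ _
  rw [commutator_le]
  intro x hx g _
  have hx' : x ∈ _root_.commutator L := commutator_mono le_top le_top hx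
  rw [D.commutator_eq] at hx'
  obtain ⟨i, hi⟩ := hx'
  simp only [MGen.c, ← zpow_mul] at hi
  obtain ⟨u, v, rfl⟩ := D.gen g
  obtain ⟨t, ht⟩ := D.dvd_r_pow v
  have e : ⁅x, D.a ^ u * D.b ^ v⁆ = (x ^ (-t)) ^ p ^ 1 := by
    have h4 := D.pow_mul_zpow v (-((D.r - 1) * i))
    rw [← hi, commutatorElement_def, ← zpow_neg, mul_assoc _ (D.a ^ u * D.b ^ v), mul_assoc (D.a ^ u), h4,
      ← zpow_mul, pow_one, ← zpow_natCast _ p, ← zpow_mul]
    have : (D.r - 1) * i * -t * p = (D.r - 1) * i + (u + -((D.r - 1) * i) * D.r ^ v) + -u := by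
      linear_combination ((D.r - 1) * i) * ht
    rw [this, zpow_add, zpow_add, zpow_add]; group
  rw [e]
  exact pow_mem_powerClosure (zpow_mem hx _)

theorem comm_pow [Finite L] [hp : Fact p.Prime] (hL : IsPGroup p L) (hmc : IsMetacyclic L)
    (he : ∀ g : L, g ^ p ^ 2 = 1) (u v : L) : ⁅u, v⁆ ^ p = 1 := by
  obtain ⟨D⟩ := nonempty_mgen hL hmc
  have hx' : ⁅u, v⁆ ∈ _root_.commutator L := commutator_mem_commutator (mem_top _) (mem_top _)
  rw [D.commutator_eq] at hx'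
  obtain ⟨i, hi⟩ := hx'
  obtain ⟨t, ht⟩ := D.hr
  simp only [MGen.c, ← zpow_mul] at hi
  rw [← hi, ht, ← zpow_natCast, ← zpow_mul, show (p : ℤ) * t * i * p = ((p ^ 2 : ℕ) : ℤ) * (t * i) by
    push_cast; ring, zpow_mul, zpow_natCast, he, one_zpow]

/-- a fixed point inside an invariant subgroup -/
theorem exists_fixed [Finite L] [hp : Fact p.Prime] (hL : IsPGroup p L) (σ : MulAut L) (hσ : σ ^ p = 1)
    (K : Subgroup L) (hK : ∀ x ∈ K, σ x ∈ K) (h1 : K ≠ ⊥) : ∃ x ∈ K, x ≠ 1 ∧ σ x = x := by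
  classical
  have := Fintype.ofFinite K
  have hinj : Function.Injective (fun x : K => (⟨σ x, hK x x.2⟩ : K)) := fun x y e =>
    Subtype.ext (σ.injective (congrArg Subtype.val e))
  let τ : Equiv.Perm K := Equiv.ofBijective _ (Finite.injective_iff_bijective.1 hinj)
  have hτ : ∀ (n : ℕ) (x : K), ((τ ^ n) x : L) = (σ ^ n) x := by
    intro n
    induction n with
    | zero => intro x; rfl
    | succ n ih => intro x; rw [pow_succ, pow_succ, Equiv.Perm.mul_apply, ih]; rfl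
  obtain ⟨k, hk⟩ := (IsPGroup.iff_card.1 (hL.to_subgroup K))
  have hk0 : k ≠ 0 := by
    rintro rfl
    exact h1 (card_eq_one.1 (by rw [hk, pow_zero]))
  obtain ⟨b, hb, hb1⟩ := Equiv.Perm.exists_fixed_point_of_prime' (p := p) (n := 1) (σ := τ) (a := 1)
    (by rw [← Nat.card_eq_fintype_card, hk]; exact dvd_pow_self p hk0)
    (by ext x; rw [pow_one, hτ, hσ]; rfl) (Subtype.ext (map_one σ))
  exact ⟨b, b.2, fun e => hb1 (Subtype.ext e), congrArg Subtype.val hb⟩

theorem eq_of_card_sq [Finite L] [hp : Fact p.Prime] {W K M : Subgroup L} (hW : Nat.card W = p ^ 2)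
    (hKM : K ≤ M) (hM : M ≤ W) (hK : K ≠ ⊥) (hM' : M ≠ W) : K = M ∧ Nat.card K = p := by
  have h1 : Nat.card M ∣ p ^ 2 := hW ▸ card_dvd_of_le hM
  have h2 : Nat.card K ∣ Nat.card M := card_dvd_of_le hKM
  obtain ⟨i, hi, e1⟩ := (Nat.dvd_prime_pow hp.out).1 h1
  obtain ⟨j, hj, e2⟩ := (Nat.dvd_prime_pow hp.out).1 (e1 ▸ h2)
  have hi2 : i ≠ 2 := by
    rintro rfl
    exact hM' (eq_of_le_of_card_ge hM (by rw [hW, e1]))
  have hj0 : j ≠ 0 := by
    rintro rfl
    exact hK (by simpa using e2)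
  obtain rfl : i = 1 := by omega
  obtain rfl : j = 1 := by omega
  exact ⟨eq_of_le_of_card_ge hKM (by rw [e1, e2]), by rw [e2, pow_one]⟩

/-- `σ` acts quadratically on an abelian invariant subgroup of order `p ^ 2` -/
theorem quad [Finite L] [hp : Fact p.Prime] (hL : IsPGroup p L) (σ : MulAut L) (hσ : σ ^ p = 1)
    (W : Subgroup L) (hW : Nat.card W = p ^ 2) (hK : ∀ x ∈ W, σ x ∈ W)
    (hc : ∀ x ∈ W, ∀ y ∈ W, x * y = y * x) {w : L} (hw : w ∈ W) : σ (w⁻¹ * σ w) = w⁻¹ * σ w := by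
  let T : W →* L := MonoidHom.mk' (fun x => (x : L)⁻¹ * σ x) (by
    intro x y
    simp only [coe_mul, map_mul, mul_inv_rev]
    have := hc _ (inv_mem y.2) _ (mul_mem (inv_mem x.2) (hK _ x.2))
    rw [mul_assoc, ← mul_assoc (x : L)⁻¹, ← mul_assoc (y : L)⁻¹, this]; group)
  have hT : ∀ x : W, T x = (x : L)⁻¹ * σ x := fun _ => rfl
  have hW1 : W ≠ ⊥ := by
    rintro rfl
    have := hp.out.two_le
    simp only [card_bot] at hW
    nlinarith
  obtain ⟨z, hz, hz1, hzf⟩ := exists_fixed hL σ hσ W hK hW1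
  have hRW : T.range ≤ W := by
    rintro _ ⟨x, rfl⟩
    exact mul_mem (inv_mem x.2) (hK _ x.2)
  have hRne : T.range ≠ W := by
    intro e
    have hs : Function.Surjective (fun x : W => (⟨T x, hRW ⟨x, rfl⟩⟩ : W)) := by
      intro y
      obtain ⟨x, hx⟩ : (y : L) ∈ T.range := by rw [e]; exact y.2
      exact ⟨x, Subtype.ext hx⟩
    have := (Finite.injective_iff_surjective.2 hs) (a₁ := ⟨z, hz⟩) (a₂ := 1)
      (Subtype.ext (by simp only [hT, hzf]; simp))
    exact hz1 (congrArg Subtype.val this)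
  by_cases h0 : T.range = ⊥
  · have : w⁻¹ * σ w ∈ T.range := ⟨⟨w, hw⟩, rfl⟩
    rw [h0, mem_bot] at this
    rw [this, map_one]
  obtain ⟨y, hy, hy1, hyf⟩ := exists_fixed hL σ hσ T.range (by
    rintro _ ⟨x, rfl⟩
    exact ⟨⟨σ x, hK _ x.2⟩, by simp only [hT, map_mul, map_inv]⟩) h0
  have := (eq_of_card_sq hW (K := T.range ⊓ σ.toMonoidHom.eqLocus (MonoidHom.id L)) inf_le_left hRW
    (fun e => hy1 (by rw [← mem_bot, ← e]; exact ⟨hy, hyf⟩)) hRne).1
  have h5 : w⁻¹ * σ w ∈ T.range := ⟨⟨w, hw⟩, rfl⟩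
  rw [← this] at h5
  exact h5.2

theorem iter (σ : MulAut L) {v t1 t2 t3 : L} (h0 : σ v = v * t1) (h1 : σ t1 = t1 * t2) (h2 : σ t2 = t2 * t3)
    (h3 : σ t3 = t3) (c12 : Commute t1 t2) (c23 : Commute t2 t3) (k : ℕ) :
    (σ ^ k) v = v * t1 ^ k * t2 ^ k.choose 2 * t3 ^ k.choose 3 := by
  induction k with
  | zero => simp
  | succ k ih =>
    rw [pow_succ', MulAut.mul_apply, ih, map_mul, map_mul, map_mul, map_pow, map_pow, map_pow, h0, h1, h2, h3,
      c12.mul_pow, c23.mul_pow, Nat.choose_succ_succ' k 1, Nat.choose_succ_succ' k 2, Nat.choose_one_right,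
      pow_add, pow_add, pow_succ']
    group

section
variable [Finite L] [hp : Fact p.Prime] (h2 : p ≠ 2) (hL : IsPGroup p L) (hmc : IsMetacyclic L)
  (hnc : ∀ C : Subgroup L, IsCyclic C → C.index ≠ p) (hnt : Nontrivial L)
include h2 hL hmc

theorem comm_V {u v : L} (hu : u ^ p ^ 2 = 1) (hv : v ^ p ^ 2 = 1) : ⁅u, v⁆ ^ p = 1 := by
  have hR := reg1 h2 hL hmc
  have := comm_pow (hL.to_subgroup (hR.omegaK hL 2)) (meta_sub hmc _) (fun g => Subtype.ext g.2) ⟨u, hu⟩ ⟨v, hv⟩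
  exact congrArg Subtype.val this

theorem pow_comm_V {u v : L} (hu : u ^ p ^ 2 = 1) (hv : v ^ p ^ 2 = 1) : Commute (u ^ p) v := by
  have hR := reg1 h2 hL hmc
  have := (hR.commute_iff hL 1 u v).2 (by
    have := comm_V h2 hL hmc (u := u⁻¹) (v := v⁻¹) (by rw [inv_pow, hu, inv_one]) (by rw [inv_pow, hv, inv_one])
    rwa [commutatorElement_def, inv_inv, inv_inv, ← pow_one p] at this)
  rwa [pow_one] at this

theorem mul_pow_V {u v : L} (hu : u ^ p ^ 2 = 1) (hv : v ^ p ^ 2 = 1) : (u * v) ^ p = u ^ p * v ^ p := by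
  have hR := reg1 h2 hL hmc
  exact hR.mul_pow_of_mem (W := hR.omegaK hL 1) (fun x hx => by simpa [hR.mem_omegaK] using hx)
    (by rw [hR.mem_omegaK, pow_one]; exact comm_V h2 hL hmc hu hv)

include hnc hnt

theorem not_cyc : ¬ IsCyclic L := by
  intro hc
  obtain ⟨k, hk⟩ := IsPGroup.iff_card.1 hL
  have hk0 : k ≠ 0 := by
    rintro rfl
    exact absurd (Finite.one_lt_card (α := L)) (by rw [hk]; simp)
  obtain ⟨C, hC⟩ := Sylow.exists_subgroup_card_pow_prime p (n := k - 1) (G := L)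
    (hk ▸ pow_dvd_pow p (by omega))
  refine hnc C inferInstance ?_
  have := C.card_mul_index
  rw [hC, hk] at this
  obtain ⟨j, rfl⟩ : ∃ j, k = j + 1 := ⟨k - 1, by omega⟩
  rw [Nat.add_sub_cancel, pow_succ] at this
  exact Nat.eq_of_mul_eq_mul_left (pow_pos hp.out.pos j) this

theorem card_W : Nat.card ((reg1 h2 hL hmc).omegaK hL 1) = p ^ 2 := by
  have := (Cfsg.Agent.S0638.result h2 hL hmc (not_cyc h2 hL hmc hnc hnt)).2
  have e : omegaOne p (⊤ : Subgroup L) = (reg1 h2 hL hmc).omegaK hL 1 := by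
    rw [omegaOne, ← closure_eq ((reg1 h2 hL hmc).omegaK hL 1)]
    congr 1
    ext x
    simp [Reg1.mem_omegaK]
  rwa [e] at this

theorem exists_xy : ∃ x y : L, orderOf x = p ^ 2 ∧ orderOf y = p ^ 2 ∧ zpowers x ⊓ zpowers y = ⊥ ∧
    p ^ 4 ∣ Nat.card L := by
  obtain ⟨A, B, hA, hB, hAB, hc⟩ := Cfsg.Agent.S3884.result h2 hL hmc
  have key : ∀ A B : Subgroup L, IsCyclic A → IsCyclic B → Nat.card A * Nat.card B = Nat.card L →
      p ^ 2 ∣ Nat.card B := by
    intro A B hA hB hc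
    obtain ⟨k, hk⟩ := IsPGroup.iff_card.1 (hL.to_subgroup B)
    have hi : A.index = p ^ k := by
      have := A.card_mul_index
      rw [← hc, hk] at this
      exact Nat.eq_of_mul_eq_mul_left Nat.card_pos this
    have h1 : k ≠ 1 := by
      rintro rfl
      exact hnc A hA (by rw [hi, pow_one])
    have h0 : k ≠ 0 := by
      rintro rfl
      rw [pow_zero, index_eq_one] at hi
      subst hi
      exact not_cyc h2 hL hmc hnc hnt (isCyclic_of_surjective _ topEquiv.surjective)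
    rw [hk]; exact pow_dvd_pow p (by omega)
  have key2 : ∀ B : Subgroup L, IsCyclic B → p ^ 2 ∣ Nat.card B → ∃ x ∈ B, orderOf x = p ^ 2 := by
    intro B hB hd
    obtain ⟨g, hg⟩ := IsCyclic.exists_ofOrder_eq_natCard (α := B)
    refine ⟨(g ^ (orderOf g / p ^ 2) : B), (g ^ (orderOf g / p ^ 2)).2, ?_⟩
    rw [orderOf_coe, orderOf_pow_orderOf_div (orderOf_pos g).ne' (hg ▸ hd)]
  have dA := key B A hB hA (by rw [mul_comm, hc])
  have dB := key A B hA hB hc
  obtain ⟨x, hx, ox⟩ := key2 A hA dA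
  obtain ⟨y, hy, oy⟩ := key2 B hB dB
  refine ⟨x, y, ox, oy, ?_, ?_⟩
  · rw [eq_bot_iff, ← hAB]
    exact inf_le_inf (zpowers_le.2 hx) (zpowers_le.2 hy)
  · rw [← hc, show 4 = 2 + 2 from rfl, pow_add]
    exact mul_dvd_mul dA dB

theorem exists_root {w : L} (hw : w ^ p = 1) : ∃ v : L, v ^ p ^ 2 = 1 ∧ v ^ p = w := by
  have hR := reg1 h2 hL hmc
  obtain ⟨x, y, ox, oy, hxy, -⟩ := exists_xy h2 hL hmc hnc hnt
  have hW := card_W h2 hL hmc hnc hnt
  have hne : ∀ x : L, orderOf x = p ^ 2 → x ^ p ≠ 1 ∧ (x ^ p) ^ p = 1 := by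
    intro x ox
    refine ⟨fun e => ?_, by rw [← pow_mul, ← sq, ← ox, pow_orderOf_eq_one]⟩
    have := Nat.le_of_dvd hp.out.pos (ox ▸ orderOf_dvd_of_pow_eq_one e)
    have := hp.out.two_le
    nlinarith
  let M := hR.omegaK hL 1 ⊓ powerClosure p 1 (⊤ : Subgroup L)
  have hM : ∀ x : L, orderOf x = p ^ 2 → x ^ p ∈ M := fun x ox =>
    ⟨(hR.mem_omegaK hL).2 (by rw [pow_one]; exact (hne x ox).2),
      by simpa using pow_mem_powerClosure (p := p) (n := 1) (mem_top x)⟩
  have e : M = hR.omegaK hL 1 := by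
    by_contra e
    have h1 := (eq_of_card_sq hW (zpowers_le.2 (hM x ox)) inf_le_left
      (by rw [Ne, zpowers_eq_bot]; exact (hne x ox).1) e).1
    have h3 : y ^ p ∈ zpowers x ⊓ zpowers y :=
      ⟨zpowers_le.2 (npow_mem_zpowers x p) (by rw [h1]; exact hM y oy), npow_mem_zpowers y p⟩
    rw [hxy, mem_bot] at h3
    exact (hne y oy).1 h3
  have h4 : w ∈ M := by rw [e, hR.mem_omegaK, pow_one]; exact hw
  obtain ⟨v, -, hv⟩ := (hR.mem_powerClosure_iff hL).1 h4.2
  rw [pow_one] at hv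
  exact ⟨v, by rw [sq, pow_mul, ← hv, hw], hv.symm⟩

theorem forward (σ : MulAut L) (hσ : σ ^ p = 1) {w : L} (hw : w ^ p = 1) (hmv : σ w ≠ w) :
    p = 3 ∧ Nat.card (σ.toMonoidHom.eqLocus (MonoidHom.id L)) = p := by
  have hR := reg1 h2 hL hmc
  have hW := card_W h2 hL hmc hnc hnt
  set W := hR.omegaK hL 1 with hWd
  have mW : ∀ x, x ∈ W ↔ x ^ p = 1 := fun x => by rw [hR.mem_omegaK, pow_one]
  have sq1 : ∀ x : L, x ^ p = 1 → x ^ p ^ 2 = 1 := fun x hx => by rw [sq, pow_mul, hx, one_pow]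
  have cen : ∀ x : L, x ^ p = 1 → ∀ y : L, y ^ p ^ 2 = 1 → Commute x y := by
    intro x hx y hy
    obtain ⟨v, hv, rfl⟩ := exists_root h2 hL hmc hnc hnt hx
    exact pow_comm_V h2 hL hmc hv hy
  have hq : ∀ x : L, x ^ p = 1 → σ (x⁻¹ * σ x) = x⁻¹ * σ x := fun x hx =>
    quad hL σ hσ W hW (fun x hx => by rw [mW] at hx ⊢; rw [← map_pow, hx, map_one])
      (fun x hx y hy => cen x ((mW x).1 hx) y (sq1 y ((mW y).1 hy))) ((mW x).2 hx)
  have hT : ∀ u : L, u ^ p ^ 2 = 1 → (u⁻¹ * σ u) ^ p ^ 2 = 1 ∧ (u⁻¹ * σ u) ^ p = (u ^ p)⁻¹ * σ (u ^ p) := by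
    intro u hu
    have h1 : u⁻¹ ^ p ^ 2 = 1 := by rw [inv_pow, hu, inv_one]
    have h3 : (σ u) ^ p ^ 2 = 1 := by rw [← map_pow, hu, map_one]
    exact ⟨(hR.omegaK hL 2).mul_mem h1 h3, by rw [mul_pow_V h2 hL hmc h1 h3, inv_pow, map_pow]⟩
  obtain ⟨v, hv, rfl⟩ := exists_root h2 hL hmc hnc hnt hw
  obtain ⟨t1, ht1⟩ : ∃ t, t = v⁻¹ * σ v := ⟨_, rfl⟩
  obtain ⟨t2, ht2⟩ : ∃ t, t = t1⁻¹ * σ t1 := ⟨_, rfl⟩
  obtain ⟨t3, ht3⟩ : ∃ t, t = t2⁻¹ * σ t2 := ⟨_, rfl⟩
  obtain ⟨a1, b1⟩ := hT v hv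
  rw [← ht1] at a1 b1
  obtain ⟨a2, b2⟩ := hT t1 a1
  rw [← ht2, b1, hq _ hw, inv_mul_cancel] at b2
  obtain ⟨a3, b3⟩ := hT t2 (sq1 _ b2)
  rw [← ht3, b2, inv_one, map_one, mul_one] at b3
  have f3 : σ t3 = t3 := by rw [ht3]; exact hq _ b2
  have n1 : t1 ^ p ≠ 1 := by
    rw [b1]; intro e; exact hmv (inv_mul_eq_one.1 e).symm
  have it := iter σ (v := v) (t1 := t1) (t2 := t2) (t3 := t3) (by rw [ht1]; group) (by rw [ht2]; group)
    (by rw [ht3]; group) f3 (cen t2 b2 t1 a1).symm (cen t2 b2 t3 (sq1 _ b3)) p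
  have hp3 : 3 ≤ p := by have := hp.out.two_le; omega
  obtain ⟨c2, hc2⟩ : p ∣ p.choose 2 := hp.out.dvd_choose_self (by norm_num) (by omega)
  rw [hσ, MulAut.one_apply, hc2, pow_mul, b2, one_pow, mul_one, mul_assoc, eq_comm, mul_eq_left] at it
  have e3 : p = 3 := by
    by_contra e3
    obtain ⟨c3, hc3⟩ : p ∣ p.choose 3 := hp.out.dvd_choose_self (by norm_num) (by omega)
    rw [hc3, pow_mul, b3, one_pow, mul_one] at it
    exact n1 it
  refine ⟨e3, ?_⟩
  have n3 : t3 ≠ 1 := by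
    rintro rfl
    rw [one_pow, mul_one] at it
    exact n1 it
  set F := σ.toMonoidHom.eqLocus (MonoidHom.id L) with hF
  have mF : ∀ x, x ∈ F ↔ σ x = x := fun x => Iff.rfl
  have hZ := eq_of_card_sq hW (K := zpowers (t1 ^ p)) (M := W ⊓ F)
    (zpowers_le.2 ⟨(mW _).2 (by rw [← pow_mul, ← sq, a1]), (mF _).2 (by rw [b1]; exact hq _ hw)⟩) inf_le_left
    (by rw [Ne, zpowers_eq_bot]; exact n1) (fun e => hmv ((mF _).1 (e.ge ((mW _).2 hw)).2))
  have key : ∀ c ∈ F, c ^ p ^ 2 = 1 → c ^ p = 1 := by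
    intro c hc hc2
    have h1 : c ^ p ∈ zpowers (t1 ^ p) := by
      rw [hZ.1]; exact ⟨(mW _).2 (by rw [← pow_mul, ← sq, hc2]), pow_mem hc _⟩
    rw [← mem_powers_iff_mem_zpowers] at h1
    obtain ⟨i, hi⟩ := h1
    simp only at hi
    rw [← pow_mul, mul_comm, pow_mul] at hi
    have h4 := (hR.pow_eq_iff hL 1 (t1 ^ i) c).1 (by rw [pow_one, hi])
    rw [pow_one] at h4
    have h5 := hq _ h4
    have h6 : ((t1 ^ i)⁻¹ * c)⁻¹ * σ ((t1 ^ i)⁻¹ * c) = (t2 ^ i)⁻¹ := by
      have h7 : σ t1 = t2 * t1 := by rw [(cen t2 b2 t1 a1).eq, ht2]; group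
      have h8 := ((cen t2 b2 c hc2).pow_left i).inv_left.eq
      rw [map_mul, map_inv, map_pow, (mF c).1 hc, h7, (cen t2 b2 t1 a1).mul_pow, mul_inv_rev, mul_inv_rev,
        inv_inv, mul_assoc, mul_assoc, mul_inv_cancel_left, h8, inv_mul_cancel_left]
    have h9 : σ t2 = t2 * t3 := by rw [ht3]; group
    rw [h6, map_inv, inv_inj, map_pow, h9, (cen t2 b2 t3 (sq1 _ b3)).mul_pow, mul_eq_left] at h5
    have o3 : orderOf t3 = p := orderOf_eq_prime b3 n3
    obtain ⟨j, rfl⟩ := o3 ▸ orderOf_dvd_of_pow_eq_one h5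
    rw [← hi, ← pow_mul, show p * j * p = p ^ 2 * j by ring, pow_mul, a1, one_pow]
  have hFW : F ≤ W := by
    intro c hc
    rw [mW]
    obtain ⟨k, hk⟩ := hL c
    induction k with
    | zero => rw [pow_zero, pow_one] at hk; rw [hk, one_pow]
    | succ k ih =>
      rcases k with _ | k
      · simpa using hk
      · refine ih ?_
        have := key (c ^ p ^ k) (pow_mem hc _) (by rw [← pow_mul, ← pow_add, hk])
        rwa [← pow_mul, ← pow_succ] at this
  rw [← inf_eq_right.2 hFW, ← hZ.1, hZ.2]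

end

theorem normal_map {σ : MulAut L} (K : Subgroup L) [hK : K.Characteristic] :
    (K.map (SemidirectProduct.inl : L →* L ⋊[(zpowers σ).subtype] zpowers σ)).Normal := by
  constructor
  rintro _ ⟨x, hx, rfl⟩ g
  refine ⟨g.left * (g.right : MulAut L) x * g.left⁻¹, ?_, ?_⟩
  · exact (inferInstance : K.Normal).conj_mem _ ((characteristic_iff_le_comap.1 hK) _ hx) _
  · ext <;> simp

theorem card_map {σ : MulAut L} (K : Subgroup L) :
    Nat.card (K.map (SemidirectProduct.inl : L →* L ⋊[(zpowers σ).subtype] zpowers σ)) = Nat.card K :=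
  card_map_of_injective SemidirectProduct.inl_injective

theorem card_sd {σ : MulAut L} :
    Nat.card (L ⋊[(zpowers σ).subtype] zpowers σ) = Nat.card L * orderOf σ := by
  rw [SemidirectProduct.card, Nat.card_zpowers]

theorem class_of_card [Finite L] [hp : Fact p.Prime] {σ : MulAut L} (ho : orderOf σ = p) {m : ℕ}
    (hm : Nat.card L = p ^ m) (hF : Nat.card (σ.toMonoidHom.eqLocus (MonoidHom.id L)) = p) :
    Group.nilpotencyClass (L ⋊[(zpowers σ).subtype] zpowers σ) = m := by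
  have : Finite (L ⋊[(zpowers σ).subtype] zpowers σ) :=
    Finite.of_equiv _ SemidirectProduct.equivProd.symm
  let s : L ⋊[(zpowers σ).subtype] zpowers σ := SemidirectProduct.inr ⟨σ, mem_zpowers σ⟩
  let A := centralizer ({s} : Set (L ⋊[(zpowers σ).subtype] zpowers σ))
  have mA : ∀ g, g ∈ A ↔ σ g.left = g.left := by
    intro g
    rw [mem_centralizer_singleton_iff, SemidirectProduct.ext_iff]
    simp only [s, SemidirectProduct.mul_left, SemidirectProduct.mul_right, SemidirectProduct.left_inr,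
      SemidirectProduct.right_inr, map_one, mul_one, one_mul, coe_subtype]
    obtain ⟨i, hi⟩ := g.right.2
    refine ⟨fun h => h.1.symm, fun h => ⟨h.symm, Subtype.ext ?_⟩⟩
    simp only [coe_mul, ← hi]
    exact ((Commute.refl σ).zpow_left i).eq
  have hA : Nat.card A = p ^ 2 := by
    let e : A ≃ (σ.toMonoidHom.eqLocus (MonoidHom.id L)) × zpowers σ :=
      { toFun := fun g => (⟨g.1.left, (mA _).1 g.2⟩, g.1.right)
        invFun := fun x => ⟨⟨x.1, x.2⟩, (mA _).2 x.1.2⟩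
        left_inv := fun _ => rfl
        right_inv := fun _ => rfl }
    rw [Nat.card_congr e, Nat.card_prod, hF, Nat.card_zpowers, ho, sq]
  have hC : centralizer (A : Set (L ⋊[(zpowers σ).subtype] zpowers σ)) = A := by
    apply le_antisymm
    · exact centralizer_le (Set.singleton_subset_iff.2 (mem_centralizer_singleton_iff.2 rfl))
    · intro x hx y hy
      let _ := IsPGroup.commGroupOfCardEqPrimeSq hA
      exact congrArg Subtype.val (mul_comm (⟨y, hy⟩ : A) ⟨x, hx⟩)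
  have := Cfsg.Agent.S0112.result (m + 1) (by rw [card_sd, hm, ho, pow_succ]) A hA hC
  simpa using this

theorem backward [Finite L] [hp : Fact p.Prime] (h2 : p ≠ 2) (hL : IsPGroup p L) (hmc : IsMetacyclic L)
    (hnc : ∀ C : Subgroup L, IsCyclic C → C.index ≠ p) (hnt : Nontrivial L) {σ : MulAut L}
    (ho : orderOf σ = p) {m : ℕ} (hm : Nat.card L = p ^ m)
    (hcl : Group.nilpotencyClass (L ⋊[(zpowers σ).subtype] zpowers σ) = m)
    (hfix : ∀ w : L, w ^ p = 1 → σ w = w) : False := by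
  have : Finite (L ⋊[(zpowers σ).subtype] zpowers σ) :=
    Finite.of_equiv _ SemidirectProduct.equivProd.symm
  have hR := reg1 h2 hL hmc
  obtain ⟨x, y, ox, oy, hxy, h4⟩ := exists_xy h2 hL hmc hnc hnt
  have hm4 : 4 ≤ m := (Nat.pow_dvd_pow_iff_le_right hp.out.one_lt).1 (hm ▸ h4)
  have hG : Nat.card (L ⋊[(zpowers σ).subtype] zpowers σ) = p ^ (m + 1) := by rw [card_sd, hm, ho, pow_succ]
  have uniq : ∀ (K K' : Subgroup L) (k : ℕ), k ≤ 2 → Nat.card K = p ^ k → Nat.card K' = p ^ k →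
      (K.map (SemidirectProduct.inl : L →* L ⋊[(zpowers σ).subtype] zpowers σ)).Normal →
      (K'.map (SemidirectProduct.inl : L →* L ⋊[(zpowers σ).subtype] zpowers σ)).Normal → K = K' := by
    intro K K' k hk h1 h3 n1 n3
    have key := (Cfsg.Agent.S0662.result (m + 1) hG (by simpa using hcl) (by omega)).1
    have hi : ∀ N : Subgroup (L ⋊[(zpowers σ).subtype] zpowers σ), Nat.card N = p ^ k →
        N.index = p ^ (m + 1 - k) := by
      intro N hN
      have := N.card_mul_index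
      rw [hG, hN, show m + 1 = k + (m + 1 - k) by omega, pow_add] at this
      exact Nat.eq_of_mul_eq_mul_left (pow_pos hp.out.pos k) this
    apply map_injective (SemidirectProduct.inl_injective (φ := (zpowers σ).subtype))
    rw [key (K.map _) _ (by omega) (hi _ (by rw [card_map, h1])),
      key (K'.map _) _ (by omega) (hi _ (by rw [card_map, h3]))]
  have hne : ∀ x : L, orderOf x = p ^ 2 → x ^ p ≠ 1 ∧ (x ^ p) ^ p = 1 := by
    intro x ox
    refine ⟨fun e => ?_, by rw [← pow_mul, ← sq, ← ox, pow_orderOf_eq_one]⟩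
    have := Nat.le_of_dvd hp.out.pos (ox ▸ orderOf_dvd_of_pow_eq_one e)
    have := hp.out.two_le
    nlinarith
  by_cases hc : ∀ c ∈ _root_.commutator L, c ^ p = 1
  · have nz : ∀ x : L, orderOf x = p ^ 2 → Nat.card (zpowers (x ^ p)) = p ^ 1 ∧
        ((zpowers (x ^ p)).map (SemidirectProduct.inl : L →* L ⋊[(zpowers σ).subtype] zpowers σ)).Normal := by
      intro x ox
      refine ⟨by rw [Nat.card_zpowers, orderOf_eq_prime (hne x ox).2 (hne x ox).1, pow_one], ⟨?_⟩⟩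
      rintro _ ⟨z, hz, rfl⟩ g
      refine ⟨z, hz, ?_⟩
      obtain ⟨i, hi⟩ := hz
      have h1 : (g.right : MulAut L) (x ^ p) = x ^ p := by
        have : (g.right : MulAut L) ∈ MulAction.stabilizer (MulAut L) (x ^ p) :=
          zpowers_le.2 (hfix _ (hne x ox).2) g.right.2
        exact this
      have h3 : Commute (x ^ p) g.left := by
        have := (hR.commute_iff hL 1 x g.left).2 (by
          rw [pow_one]
          refine hc _ ?_
          have := commutator_mem_commutator (mem_top x⁻¹) (mem_top g.left⁻¹)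
          rwa [commutatorElement_def, inv_inv, inv_inv] at this)
        rwa [pow_one] at this
      have h5 : (g.right : MulAut L) z = z := by rw [← hi, map_zpow, h1]
      have h6 : g.left * z = z * g.left := by rw [← hi]; exact (h3.zpow_left i).eq.symm
      ext
      · simp [h5, h6]
      · simp
    have := uniq _ _ 1 (by norm_num) (nz x ox).1 (nz y oy).1 (nz x ox).2 (nz y oy).2
    have h3 : y ^ p ∈ zpowers x ⊓ zpowers y :=
      ⟨zpowers_le.2 (npow_mem_zpowers x p) (by rw [this]; exact mem_zpowers _), npow_mem_zpowers y p⟩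
    rw [hxy, mem_bot] at h3
    exact (hne y oy).1 h3
  · push Not at hc
    obtain ⟨c, hc, hc1⟩ := hc
    obtain ⟨k, hk⟩ := IsPGroup.iff_orderOf.1 hL c
    have hk2 : 2 ≤ k := by
      by_contra h
      refine hc1 (orderOf_dvd_iff_pow_eq_one.1 ?_)
      rw [hk]; simpa using pow_dvd_pow p (show k ≤ 1 by omega)
    obtain ⟨d, hd, od⟩ : ∃ d ∈ _root_.commutator L, orderOf d = p ^ 2 :=
      ⟨_, pow_mem hc _, orderOf_pow_orderOf_div (orderOf_pos c).ne' (hk ▸ pow_dvd_pow p hk2)⟩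
    let K := _root_.commutator L ⊓ hR.omegaK hL 2
    have hdK : d ∈ K := ⟨hd, (hR.mem_omegaK hL).2 (od ▸ pow_orderOf_eq_one d)⟩
    have hK : Nat.card K = p ^ 2 := by
      obtain ⟨D⟩ := nonempty_mgen hL hmc
      have hcy : IsCyclic (_root_.commutator L) := by rw [D.commutator_eq]; infer_instance
      have : IsCyclic K := isCyclic_of_injective (inclusion (inf_le_left : K ≤ _)) (inclusion_injective _)
      obtain ⟨g, hg⟩ := IsCyclic.exists_ofOrder_eq_natCard (α := K)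
      apply Nat.dvd_antisymm
      · rw [← hg]; exact orderOf_dvd_of_pow_eq_one (Subtype.ext g.2.2)
      · rw [← od, ← Nat.card_zpowers]; exact card_dvd_of_le (zpowers_le.2 hdK)
    have := uniq K _ 2 le_rfl hK (card_W h2 hL hmc hnc hnt) (normal_map _) (normal_map _)
    rw [this, hR.mem_omegaK, pow_one] at hdK
    exact (hne d od).1 hdK

end CF.Mca
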